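import Mathlib
import Cfsg.Agent.Base

/-! Half-transitive automorphism groups (Isaacs–Passman). -/

set_option linter.unusedSectionVars false

namespace H26.Half

open MulAction

/-- If every orbit has size `t`, then `t` divides the number of points. -/
theorem dvd_card_of_orbits {A X : Type*} [Group A] [MulAction A X] [Finite X] (t : ℕ)
    (h : ∀ x : X, Nat.card (orbit A x) = t) : t ∣ Nat.card X := by
  classical
  have := Fintype.ofFinite (orbitRel.Quotient A X)
  rw [Nat.card_congr (selfEquivSigmaOrbits A X), Nat.card_sigma]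
  refine Finset.dvd_sum fun ω _ => ?_
  rw [h]

/-- The same for an invariant subset. -/
theorem dvd_card_of_orbits_on {A X : Type*} [Group A] [MulAction A X] [Finite X] (B : Set X)
    (hB : ∀ a : A, ∀ x ∈ B, a • x ∈ B) (t : ℕ)
    (h : ∀ x ∈ B, Nat.card (orbit A x) = t) : t ∣ Nat.card B := by
  let C : SubMulAction A X := { carrier := B, smul_mem' := fun a x hx => hB a x hx }
  have := dvd_card_of_orbits (A := A) (X := C) t (fun x => by
    rw [← h x.1 x.2, Nat.card_coe_set_eq, Nat.card_coe_set_eq, ← index_stabilizer,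
      ← index_stabilizer]
    congr 1
    ext a
    simp only [mem_stabilizer_iff]
    exact ⟨fun e => congrArg Subtype.val e, fun e => Subtype.ext e⟩)
  exact this

/-- A block of size prime to the common orbit length has a common stabilizer. -/
theorem stab_eq_of_block {A X : Type*} [Group A] [Finite A] [MulAction A X] [Finite X]
    (B : Set X) (m : ℕ) (hm : ∀ x ∈ B, Nat.card (orbit A x) = m)
    (hco : Nat.Coprime m (Nat.card B))
    (hB : ∀ a : A, ∀ x ∈ B, a • x ∈ B → ∀ y ∈ B, a • y ∈ B) :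
    ∀ x ∈ B, ∀ y ∈ B, stabilizer A x = stabilizer A y := by
  intro x0 hx0
  let S : Subgroup A :=
    { carrier := {a | ∀ y ∈ B, a • y ∈ B}
      one_mem' := fun y hy => by simpa using hy
      mul_mem' := fun {a b} ha hb y hy => by rw [mul_smul]; exact ha _ (hb _ hy)
      inv_mem' := fun {a} ha => hB a⁻¹ (a • x0) (ha _ hx0) (by simpa using hx0) }
  have hle : ∀ x ∈ B, stabilizer A x ≤ S := fun x hx a ha =>
    hB a x hx (by rw [mem_stabilizer_iff.1 ha]; exact hx)
  have hidx : ∀ x ∈ B, (stabilizer A x).index = m := fun x hx => by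
    rw [index_stabilizer]; exact hm x hx
  have hrel : ∀ x ∈ B, (stabilizer A x).relIndex S * S.index = m := fun x hx => by
    rw [Subgroup.relIndex_mul_index (hle x hx), hidx x hx]
  have hSi : 0 < S.index := Nat.pos_of_ne_zero Subgroup.FiniteIndex.index_ne_zero
  set t := (stabilizer A x0).relIndex S with ht
  have hrel' : ∀ x ∈ B, (stabilizer A x).relIndex S = t := fun x hx =>
    Nat.eq_of_mul_eq_mul_right hSi (by rw [hrel x hx, hrel x0 hx0])
  have h1 : t ∣ Nat.card B := by
    refine dvd_card_of_orbits_on (A := S) B (fun a x hx => a.2 x hx) t fun x hx => ?_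
    rw [Nat.card_coe_set_eq, ← index_stabilizer, ← hrel' x hx]
    rfl
  have h2 : t ∣ m := ⟨_, (hrel x0 hx0).symm⟩
  have h3 : t = 1 := Nat.eq_one_of_dvd_coprimes hco h2 h1
  have key : ∀ x ∈ B, stabilizer A x = S := fun x hx =>
    le_antisymm (hle x hx) (Subgroup.relIndex_eq_one.1 (by rw [hrel' x hx, h3]))
  intro y hy
  rw [key x0 hx0, key y hy]

section
variable {A N : Type*} [Group A] [Finite A] [Group N] [Finite N] [MulDistribMulAction A N]

/-- Half-transitive, faithful and not semiregular. -/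
structure Hyp (A N : Type*) [Group A] [Group N] [MulDistribMulAction A N] (m : ℕ) : Prop where
  orb : ∀ x : N, x ≠ 1 → Nat.card (orbit A x) = m
  faith : ∀ a : A, (∀ x : N, a • x = x) → a = 1
  nsr : ∃ a : A, a ≠ 1 ∧ ∃ x : N, x ≠ 1 ∧ a • x = x

variable {m : ℕ}

theorem Hyp.coprime (h : Hyp A N m) : Nat.Coprime m (Nat.card N) := by
  have h1 : m ∣ Nat.card ({1}ᶜ : Set N) :=
    dvd_card_of_orbits_on (A := A) ({1}ᶜ : Set N) (fun a x hx e => hx (by
      simpa using (smul_eq_iff_eq_inv_smul a).1 e)) m h.orb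
  have h2 : Nat.card ({1}ᶜ : Set N) + 1 = Nat.card N := by
    have := Set.ncard_add_ncard_compl ({1} : Set N)
    rw [Set.ncard_singleton] at this
    rw [Nat.card_coe_set_eq]; omega
  rw [← h2]
  obtain ⟨c, hc⟩ := h1
  rw [hc]
  simp

theorem Hyp.card_stab (h : Hyp A N m) {x y : N} (hx : x ≠ 1) (hy : y ≠ 1) :
    Nat.card (stabilizer A x) = Nat.card (stabilizer A y) := by
  have e1 := (stabilizer A x).card_mul_index
  have e2 := (stabilizer A y).card_mul_index
  rw [index_stabilizer, ← Nat.card_coe_set_eq, h.orb x hx] at e1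
  rw [index_stabilizer, ← Nat.card_coe_set_eq, h.orb y hy] at e2
  have hm : 0 < m := by
    rw [← h.orb x hx]; exact Nat.card_pos_iff.2 ⟨⟨⟨x, mem_orbit_self x⟩⟩, inferInstance⟩
  exact Nat.eq_of_mul_eq_mul_right hm (e1.trans e2.symm)

theorem Hyp.stab_eq_of_le (h : Hyp A N m) {x y : N} (hx : x ≠ 1) (hy : y ≠ 1)
    (hle : stabilizer A x ≤ stabilizer A y) : stabilizer A x = stabilizer A y :=
  Subgroup.eq_of_le_of_card_ge hle (h.card_stab hx hy).ge

theorem Hyp.exists_not_le (h : Hyp A N m) {x : N} (hx : x ≠ 1) :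
    ∃ y : N, ¬ stabilizer A x ≤ stabilizer A y := by
  by_contra hc
  push Not at hc
  obtain ⟨a, ha, z, hz, haz⟩ := h.nsr
  have h1 : stabilizer A x = ⊥ := by
    rw [eq_bot_iff]
    intro b hb
    exact h.faith b fun y => hc y hb
  have h2 := h.card_stab hx hz
  rw [h1, Subgroup.card_bot] at h2
  have h3 := Subgroup.eq_bot_of_card_eq _ h2.symm
  exact ha (by simpa [h3] using (show a ∈ stabilizer A z from haz))

theorem le_of_mul {x y z : N} (h1 : stabilizer A x ≤ stabilizer A y)
    (h2 : stabilizer A x ≤ stabilizer A (y * z)) : stabilizer A x ≤ stabilizer A z := by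
  intro a ha
  have e1 := h1 ha
  have e2 := h2 ha
  rw [mem_stabilizer_iff] at e1 e2 ⊢
  rw [smul_mul', e1] at e2
  exact mul_left_cancel e2

/-- The action is irreducible. -/
theorem Hyp.irred (h : Hyp A N m) (W : Subgroup N) (hW : ∀ a : A, ∀ w ∈ W, a • w ∈ W) :
    W = ⊥ ∨ W = ⊤ := by
  by_contra hc
  push Not at hc
  obtain ⟨h1, h2⟩ := hc
  obtain ⟨⟨w, hw⟩, hw1⟩ := Subgroup.ne_bot_iff_exists_ne_one.1 h1
  have hw1' : w ≠ 1 := fun e => hw1 (Subtype.ext e)
  have key : ∀ x, x ∉ W → stabilizer A w ≤ stabilizer A x := by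
    intro x hx
    have hx1 : x ≠ 1 := fun e => hx (e ▸ W.one_mem)
    have hcard : Nat.card {y : N | x⁻¹ * y ∈ W} = Nat.card W := by
      refine Nat.card_congr ⟨fun y => ⟨x⁻¹ * y.1, y.2⟩, fun y => ⟨x * y.1, by simp⟩, ?_, ?_⟩
      · intro y; simp
      · intro y; simp
    have := stab_eq_of_block (A := A) {y : N | x⁻¹ * y ∈ W} m
      (fun y hy => h.orb y (fun e => hx (by simpa [e] using hy)))
      (by rw [hcard]; exact h.coprime.coprime_dvd_right W.card_subgroup_dvd_card)
      (fun a y hy hay z hz => by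
        have e1 : y⁻¹ * z ∈ W := by
          have := W.mul_mem (W.inv_mem hy) hz
          simpa [mul_assoc] using this
        have e2 := W.mul_mem hay (hW a _ e1)
        simpa [mul_assoc, smul_mul', smul_inv'] using e2)
      x (by simp) (x * w) (by simpa using hw)
    have h3 : stabilizer A x ≤ stabilizer A w := le_of_mul le_rfl this.le
    exact (h.stab_eq_of_le hx1 hw1' h3).ge
  obtain ⟨y, hy⟩ := h.exists_not_le hw1'
  obtain ⟨x, hx⟩ : ∃ x, x ∉ W := by
    by_contra hc; push Not at hc; exact h2 (eq_top_iff.2 fun x _ => hc x)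
  by_cases hyW : y ∈ W
  · exact hy (le_of_mul (key x hx) (key _ (fun e => hx (by simpa using W.mul_mem e (W.inv_mem hyW)))))
  · exact hy (key y hyW)

theorem Hyp.stab_conj (h : Hyp A N m) {x : N} (hx : x ≠ 1) (g : N) :
    stabilizer A x = stabilizer A (g * x * g⁻¹) := by
  have hcard : Nat.card {y : N | IsConj x y} ∣ Nat.card N := by
    have e : {y : N | IsConj x y} = orbit (ConjAct N) x := by
      ext y; rw [ConjAct.mem_orbit_conjAct]; exact isConj_comm
    rw [e, Nat.card_coe_set_eq, ← index_stabilizer]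
    exact (stabilizer (ConjAct N) x).index_dvd_card
  refine stab_eq_of_block (A := A) {y : N | IsConj x y} m
      (fun y hy => h.orb y (fun e => hx (by simpa [e] using hy)))
      (h.coprime.coprime_dvd_right hcard)
      (fun a y hy hay z hz => ?_) x (IsConj.refl x) _ (isConj_iff.2 ⟨g, rfl⟩)
  obtain ⟨c, rfl⟩ := isConj_iff.1 (IsConj.trans (IsConj.symm hy) hz)
  refine IsConj.trans hay (isConj_iff.2 ⟨a • c, ?_⟩)
  simp [smul_mul', smul_inv']

theorem Hyp.comm (h : Hyp A N m) (x y : N) : x * y = y * x := by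
  by_cases hx : x = 1
  · simp [hx]
  have key : ∀ z, ¬ stabilizer A x ≤ stabilizer A z → x * z = z * x := by
    intro z hz
    have hz1 : z ≠ 1 := by rintro rfl; exact hz fun a _ => by simp
    by_contra hne
    have hc : x * z * x⁻¹ * z⁻¹ ≠ 1 := fun e => hne (by
      rw [mul_inv_eq_one, mul_inv_eq_iff_eq_mul] at e; exact e)
    have h1 : stabilizer A z ≤ stabilizer A (x * z * x⁻¹ * z⁻¹) := by
      intro a ha
      have e1 := (h.stab_conj hz1 x).le ha
      rw [mem_stabilizer_iff] at ha e1 ⊢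
      rw [smul_mul', e1, smul_inv', ha]
    have h2 : stabilizer A x ≤ stabilizer A (x * z * x⁻¹ * z⁻¹) := by
      intro a ha
      have e1 := (h.stab_conj hx z).le ha
      rw [mem_stabilizer_iff] at ha e1 ⊢
      have e : x * z * x⁻¹ * z⁻¹ = x * (z * x * z⁻¹)⁻¹ := by group
      rw [e, smul_mul', smul_inv', e1, ha]
    exact hz ((h.stab_eq_of_le hx hc h2).trans (h.stab_eq_of_le hz1 hc h1).symm).le
  obtain ⟨z, hz⟩ := h.exists_not_le hx
  by_cases hy : stabilizer A x ≤ stabilizer A y
  · have h1 := key z hz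
    have h2 := key (y * z) (fun e => hz (le_of_mul hy e))
    rw [← mul_assoc, mul_assoc y z, ← h1, ← mul_assoc] at h2
    exact mul_right_cancel h2
  · exact key y hy

theorem Hyp.elem (h : Hyp A N m) : ∃ p : ℕ, p.Prime ∧ ∀ x : N, x ^ p = 1 := by
  obtain ⟨a, ha, z, hz, haz⟩ := h.nsr
  have hN : Nat.card N ≠ 1 := fun e => hz ((Nat.card_eq_one_iff_unique.1 e).1.elim _ _)
  obtain ⟨p, hp, hpd⟩ := Nat.exists_prime_and_dvd hN
  haveI := Fact.mk hp
  obtain ⟨u, hu⟩ := exists_prime_orderOf_dvd_card' p hpd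
  let W : Subgroup N :=
    { carrier := {x | x ^ p = 1}
      one_mem' := by simp
      mul_mem' := fun {x y} hx hy => by
        have : Commute x y := h.comm x y
        show (x * y) ^ p = 1
        rw [this.mul_pow, hx, hy, one_mul]
      inv_mem' := fun {x} hx => by
        show x⁻¹ ^ p = 1
        rw [inv_pow, hx, inv_one] }
  rcases h.irred W (fun a w hw => by
    show (a • w) ^ p = 1
    rw [← smul_pow', hw, smul_one]) with h1 | h1
  · have : u ∈ W := by show u ^ p = 1; rw [← hu, pow_orderOf_eq_one]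
    rw [h1, Subgroup.mem_bot] at this
    rw [this, orderOf_one] at hu
    exact absurd hu.symm hp.ne_one
  · exact ⟨p, hp, fun x => (show x ∈ W by rw [h1]; trivial)⟩

end

end H26.Half
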